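import Mathlib.RingTheory.Regular.RegularSequence
import Mathlib.RingTheory.LocalRing.MaximalIdeal.Basic
import Mathlib.Data.List.Chain
import Mathlib.Tactic.LinearCombination

/-!
# Exchange property of regular sequences in a local ring
-/

open RingTheory.Sequence IsLocalRing

universe u

namespace Groth.Agent.RegExchange

variable {A : Type u} [CommRing A] [IsLocalRing A] [IsNoetherianRing A]

omit [IsLocalRing A] [IsNoetherianRing A] in
lemma smul_top_eq (I : Ideal A) : (I • ⊤ : Submodule A A) = I := by
  rw [smul_eq_mul, Ideal.mul_top]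

omit [IsLocalRing A] [IsNoetherianRing A] in
lemma span_perm {l l' : List A} (h : l.Perm l') : Ideal.ofList l = Ideal.ofList l' :=
  congrArg Ideal.span (Set.ext fun _ => h.mem_iff)

omit [IsLocalRing A] [IsNoetherianRing A] in
lemma isRegular_concat_iff (o : List A) (x : A) :
    IsRegular A (o ++ [x]) ↔ IsWeaklyRegular A o ∧
      (∀ a, x * a ∈ Ideal.ofList o → a ∈ Ideal.ofList o) ∧ Ideal.ofList (o ++ [x]) ≠ ⊤ := by
  rw [isRegular_iff, isWeaklyRegular_append_iff, isWeaklyRegular_singleton_iff,
    isSMulRegular_quotient_iff_mem_of_smul_mem, smul_top_eq, smul_top_eq, and_assoc, ne_comm]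
  rfl

/-- Membership splitting. -/
lemma exists_unit_coeff (p : List A) (I : Ideal A) : ∀ (r : List A) (y : A),
    (∀ x ∈ r, x ∈ I) → y ∈ Ideal.ofList (p ++ r) →
      y ∈ Ideal.ofList p ⊔ maximalIdeal A * I ∨
        ∃ r₁ x r₂, r = r₁ ++ x :: r₂ ∧ x ∈ Ideal.ofList (p ++ r₁ ++ r₂ ++ [y])
  | [], y, _, hy => Or.inl (Submodule.mem_sup_left (by simpa using hy))
  | x :: r, y, hI, hy => by
    rw [Ideal.ofList_append, Ideal.ofList_cons] at hy
    obtain ⟨s, hs, t, ht, rfl⟩ := Submodule.mem_sup.mp hy
    obtain ⟨b, hb, t', ht', rfl⟩ := Submodule.mem_sup.mp ht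
    obtain ⟨a, rfl⟩ := Ideal.mem_span_singleton'.mp hb
    by_cases ha : a ∈ maximalIdeal A
    · have hax : a * x ∈ maximalIdeal A * I := Ideal.mul_mem_mul ha (hI x (List.mem_cons_self ..))
      rcases exists_unit_coeff p I r (s + t') (fun z hz => hI z (List.mem_cons_of_mem _ hz))
        (by rw [Ideal.ofList_append]; exact Submodule.add_mem_sup hs ht') with h | ⟨r₁, z, r₂, e, hz⟩
      · refine Or.inl ?_
        rw [show s + (a * x + t') = (s + t') + a * x by ring]
        exact add_mem h (Submodule.mem_sup_right hax)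
      · refine Or.inr ⟨x :: r₁, z, r₂, by rw [e]; rfl, ?_⟩
        have hle : Ideal.ofList (p ++ r₁ ++ r₂ ++ [s + t']) ≤
            Ideal.ofList (p ++ (x :: r₁) ++ r₂ ++ [s + (a * x + t')]) := by
          simp only [Ideal.ofList_append, Ideal.ofList_cons, Ideal.ofList_nil, sup_bot_eq]
          refine sup_le (sup_le (sup_le ?_ ?_) ?_) ?_
          · exact le_trans le_sup_left (le_trans le_sup_left le_sup_left)
          · exact le_trans le_sup_right (le_trans le_sup_right (le_trans le_sup_left le_sup_left))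
          · exact le_trans le_sup_right le_sup_left
          · rw [Ideal.span_singleton_le_iff_mem,
              show s + t' = (s + (a * x + t')) - a * x by ring]
            refine sub_mem (Submodule.mem_sup_right (Ideal.mem_span_singleton_self _))
              (Submodule.mem_sup_left (Submodule.mem_sup_left (Submodule.mem_sup_right
                (Submodule.mem_sup_left (Ideal.mul_mem_left _ _ (Ideal.mem_span_singleton_self _))))))
        exact hle hz
    · refine Or.inr ⟨[], x, r, rfl, ?_⟩
      obtain ⟨a, rfl⟩ : IsUnit a := not_not.mp ha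
      rw [List.append_nil, Ideal.ofList_append, Ideal.ofList_append, Ideal.ofList_singleton]
      have h1 : x = ↑a⁻¹ * ((s + (↑a * x + t')) - s - t') := by
        rw [show s + (↑a * x + t') - s - t' = ↑a * x by ring, ← mul_assoc, Units.inv_mul, one_mul]
      rw [h1]
      refine Ideal.mul_mem_left _ _ (sub_mem (sub_mem ?_ ?_) ?_)
      · exact Submodule.mem_sup_right (h1 ▸ Ideal.mem_span_singleton_self _)
      · exact Submodule.mem_sup_left (Submodule.mem_sup_left hs)
      · exact Submodule.mem_sup_left (Submodule.mem_sup_right ht')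

/-- A regular sequence is minimal. -/
lemma not_mem_of_isRegular (p s : List A) (y : A) (h : IsRegular A (p ++ y :: s)) :
    y ∉ Ideal.ofList p ⊔ maximalIdeal A * Ideal.ofList (p ++ y :: s) := by
  intro hy
  have hperm : (p ++ y :: s).Perm ((p ++ s) ++ [y]) :=
    List.perm_middle.trans (List.perm_append_singleton y (p ++ s)).symm
  obtain ⟨-, hreg, hne⟩ := (isRegular_concat_iff _ _).mp (IsLocalRing.isRegular_of_perm h hperm)
  rw [span_perm hperm, Ideal.ofList_append _ [y], Ideal.ofList_singleton, Ideal.mul_sup] at hy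
  have hy' : y ∈ Ideal.ofList (p ++ s) ⊔ maximalIdeal A * Ideal.span {y} := by
    revert hy
    refine fun hy => (?_ : Ideal.ofList p ⊔ (maximalIdeal A * Ideal.ofList (p ++ s) ⊔
      maximalIdeal A * Ideal.span {y}) ≤ _) hy
    refine sup_le ?_ (sup_le ?_ le_sup_right)
    · exact le_trans (by rw [Ideal.ofList_append]; exact le_sup_left) le_sup_left
    · exact le_trans Ideal.mul_le_right le_sup_left
  obtain ⟨o, ho, t, ht, e⟩ := Submodule.mem_sup.mp hy'
  obtain ⟨c, hc, rfl⟩ := Ideal.mem_mul_span_singleton.mp ht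
  have hu : IsUnit (1 - c) := by
    refine (IsLocalRing.isUnit_or_isUnit_one_sub_self c).resolve_left ?_
    exact hc
  have h0 : y * (1 - c) ∈ Ideal.ofList (p ++ s) := by
    have e0 : y * (1 - c) = o := by linear_combination -e
    rw [e0]; exact ho
  obtain ⟨w, hw⟩ := hu
  have h1 : y * 1 ∈ Ideal.ofList (p ++ s) := by
    have := Ideal.mul_mem_right (↑w⁻¹ : A) _ h0
    rwa [← hw, mul_assoc, Units.mul_inv] at this
  refine hne ((Ideal.eq_top_iff_one _).mpr ?_)
  rw [Ideal.ofList_append]
  exact Submodule.mem_sup_left (hreg 1 h1)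

lemma isRegular_exchange (o : List A) (x y : A) (h : IsRegular A (o ++ [x]))
    (hx : x ∈ Ideal.ofList (o ++ [y])) (he : Ideal.ofList (o ++ [y]) = Ideal.ofList (o ++ [x])) :
    IsRegular A (o ++ [y]) := by
  obtain ⟨h1, h2, h3⟩ := (isRegular_concat_iff _ _).mp h
  refine (isRegular_concat_iff _ _).mpr ⟨h1, fun a ha => h2 a ?_, he ▸ h3⟩
  rw [Ideal.ofList_append, Ideal.ofList_singleton] at hx
  obtain ⟨s, hs, t, ht, rfl⟩ := Submodule.mem_sup.mp hx
  obtain ⟨b, rfl⟩ := Ideal.mem_span_singleton'.mp ht
  rw [show (s + b * y) * a = s * a + b * (y * a) by ring]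
  exact add_mem (Ideal.mul_mem_right _ _ hs) (Ideal.mul_mem_left _ _ ha)

/-- An elementary step. -/
def Step (w w' : List A) : Prop := w.Perm w' ∨ (w.length = w'.length ∧ w.dropLast = w'.dropLast)

/-- Regular sequences generating `I`. -/
def Good (I : Ideal A) (w : List A) : Prop := IsRegular A w ∧ Ideal.ofList w = I

/-- One good elementary step. -/
def GStep (I : Ideal A) (w w' : List A) : Prop := Step w w' ∧ Good I w'

theorem reach (I : Ideal A) (v : List A) (hv : Good I v) : ∀ (s p r : List A), v = p ++ s →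
    Good I (p ++ r) → Relation.ReflTransGen (GStep I) (p ++ r) v
  | [], p, r, e, hr => by
    rw [List.append_nil] at e
    subst e
    cases r with
    | nil => rw [List.append_nil]
    | cons x r =>
      exfalso
      refine not_mem_of_isRegular v r x hr.1 (Submodule.mem_sup_left ?_)
      rw [hv.2, ← hr.2]
      exact Ideal.subset_span (by simp)
  | y :: s, p, r, e, hr => by
    have hy : y ∈ Ideal.ofList (p ++ r) := by
      rw [hr.2, ← hv.2, e]; exact Ideal.subset_span (by simp)
    have hI : ∀ x ∈ r, x ∈ I := fun x hx => hr.2 ▸ Ideal.subset_span (by simp [hx])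
    rcases exists_unit_coeff p I r y hI hy with h | ⟨r₁, x, r₂, er, hx⟩
    · refine absurd h ?_
      rw [← hv.2, e]
      exact not_mem_of_isRegular p s y (e ▸ hv.1)
    · subst er
      have hperm : (p ++ (r₁ ++ x :: r₂)).Perm ((p ++ r₁ ++ r₂) ++ [x]) := by
        rw [← List.append_assoc]
        exact List.perm_middle.trans (List.perm_append_singleton x _).symm
      have g1 : Good I ((p ++ r₁ ++ r₂) ++ [x]) :=
        ⟨IsLocalRing.isRegular_of_perm hr.1 hperm, (span_perm hperm).symm.trans hr.2⟩
      have heq : Ideal.ofList ((p ++ r₁ ++ r₂) ++ [y]) = Ideal.ofList ((p ++ r₁ ++ r₂) ++ [x]) := by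
        refine le_antisymm ?_ ?_
        · rw [Ideal.ofList_append, Ideal.ofList_singleton]
          refine sup_le (by rw [Ideal.ofList_append _ [x]]; exact le_sup_left) ?_
          rw [Ideal.span_singleton_le_iff_mem, ← span_perm hperm]
          exact hy
        · rw [Ideal.ofList_append _ [x], Ideal.ofList_singleton]
          refine sup_le ?_ ((Ideal.span_singleton_le_iff_mem _).mpr hx)
          rw [Ideal.ofList_append _ [y]]; exact le_sup_left
      have g2 : Good I ((p ++ r₁ ++ r₂) ++ [y]) :=
        ⟨isRegular_exchange _ x y g1.1 hx heq, heq.trans g1.2⟩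
      have hperm2 : ((p ++ r₁ ++ r₂) ++ [y]).Perm ((p ++ [y]) ++ (r₁ ++ r₂)) := by
        refine (List.perm_append_singleton y _).trans ?_
        rw [List.append_assoc p r₁ r₂, List.append_assoc]
        exact List.perm_middle.symm
      have g3 : Good I ((p ++ [y]) ++ (r₁ ++ r₂)) :=
        ⟨IsLocalRing.isRegular_of_perm g2.1 hperm2, (span_perm hperm2).symm.trans g2.2⟩
      refine (Relation.ReflTransGen.head ⟨Or.inl hperm, g1⟩ ?_)
      refine (Relation.ReflTransGen.head ⟨Or.inr ⟨by simp, by simp⟩, g2⟩ ?_)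
      refine (Relation.ReflTransGen.head ⟨Or.inl hperm2, g3⟩ ?_)
      exact reach I v hv s (p ++ [y]) (r₁ ++ r₂) (by rw [e]; simp) g3

end Groth.Agent.RegExchange
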